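import Mathlib
import Cfsg.Agent.Lib.Helper60.U64.Defs

/-!
# U64 (S6001), package [FRA]: a Pauli frame in an extraspecial-type group of order 64

Second (independent) seat.  Everything is done in the unit group `(M4 F)ˣ` with its negation.
-/

set_option autoImplicit false

namespace Cfsg.Agent.Lib.Helper13.U64

open Matrix Cfsg.Agent.Lib.Helper60.U64

universe u

section units

variable {M : Type*} [Ring M]

theorem fra_mem_cent {t g : Mˣ} : g ∈ Subgroup.centralizer ({t} : Set Mˣ) ↔ t * g = g * t := by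
  simp [Subgroup.mem_centralizer_iff]

theorem fra_neg_ne (hne : (-1 : Mˣ) ≠ 1) (y : Mˣ) : -y ≠ y := by
  intro h
  apply hne
  have : (-1 : Mˣ) * y = 1 * y := by rw [neg_one_mul, one_mul]; exact h
  exact mul_right_cancel this

/-- Index two: if some `h0 ∈ H` anticommutes with `t` and every element of `H` commutes or
anticommutes with `t`, then `|H| = 2 |C_H(t)|`. -/
theorem fra_card_half (hne : (-1 : Mˣ) ≠ 1) (H : Subgroup Mˣ) (t h0 : Mˣ)
    (hh0 : h0 ∈ H) (hanti : h0 * t = -(t * h0))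
    (hpm : ∀ x ∈ H, x * t = t * x ∨ x * t = -(t * x)) :
    Nat.card H = 2 * Nat.card ↥(H ⊓ Subgroup.centralizer ({t} : Set Mˣ)) := by
  set K : Subgroup Mˣ := H ⊓ Subgroup.centralizer ({t} : Set Mˣ) with hK
  have hidx : (K.subgroupOf H).index = 2 := by
    rw [Subgroup.index_eq_two_iff]
    refine ⟨⟨h0, hh0⟩, fun b => ?_⟩
    have hb := b.2
    simp only [Subgroup.mem_subgroupOf, Subgroup.coe_mul, hK, Subgroup.mem_inf, fra_mem_cent]
    rcases hpm b hb with h | h
    · right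
      refine ⟨⟨hb, h.symm⟩, ?_⟩
      rintro ⟨-, h'⟩
      have e : (b : Mˣ) * h0 * t = -(t * (b * h0)) := by
        rw [mul_assoc, hanti, mul_neg, ← mul_assoc, h, mul_assoc]
      rw [e] at h'
      exact fra_neg_ne hne _ h'.symm
    · left
      refine ⟨⟨H.mul_mem hb hh0, ?_⟩, ?_⟩
      · have e : (b : Mˣ) * h0 * t = t * (b * h0) := by
          calc (b : Mˣ) * h0 * t = b * (h0 * t) := mul_assoc _ _ _
            _ = -((b * t) * h0) := by rw [hanti, mul_neg, mul_assoc]
            _ = t * (b * h0) := by rw [h, neg_mul, neg_neg, mul_assoc]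
        exact e.symm
      · rintro ⟨-, h'⟩
        rw [h] at h'
        exact fra_neg_ne hne _ h'.symm
  have h1 := Subgroup.card_mul_index (K.subgroupOf H)
  rw [hidx] at h1
  have h2 : Nat.card ↥(K.subgroupOf H) = Nat.card ↥K :=
    Nat.card_congr (Subgroup.subgroupOfEquivOfLe (inf_le_left : K ≤ H)).toEquiv
  rw [h2] at h1
  omega

/-- Splitting off an anticommuting pair of involutions. -/
theorem fra_decomp (R : Subgroup Mˣ) (a b x : Mˣ) (ha : a ∈ R) (hb : b ∈ R) (hx : x ∈ R)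
    (haa : a * a = 1) (hbb : b * b = 1) (hab : a * b = -(b * a))
    (hxa : x * a = a * x ∨ x * a = -(a * x)) (hxb : x * b = b * x ∨ x * b = -(b * x)) :
    ∃ (e f : ℕ) (c : Mˣ), c ∈ R ∧ x = a ^ e * b ^ f * c ∧ c * a = a * c ∧ c * b = b * c := by
  rcases hxa with hxa | hxa <;> rcases hxb with hxb | hxb
  · exact ⟨0, 0, x, hx, by simp, hxa, hxb⟩
  · refine ⟨1, 0, a * x, R.mul_mem ha hx, ?_, ?_, ?_⟩
    · rw [pow_one, pow_zero, mul_one, ← mul_assoc, haa, one_mul]
    · rw [mul_assoc, hxa]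
    · rw [mul_assoc, hxb, mul_neg, ← mul_assoc, hab, neg_mul, neg_neg, mul_assoc]
  · refine ⟨0, 1, b * x, R.mul_mem hb hx, ?_, ?_, ?_⟩
    · rw [pow_one, pow_zero, one_mul, ← mul_assoc, hbb, one_mul]
    · rw [mul_assoc, hxa, mul_neg, ← mul_assoc a b x, hab, neg_mul, mul_assoc]
    · rw [mul_assoc, hxb]
  · refine ⟨1, 1, b * (a * x), R.mul_mem hb (R.mul_mem ha hx), ?_, ?_, ?_⟩
    · rw [pow_one, pow_one, mul_assoc a b, ← mul_assoc b b, hbb, one_mul, ← mul_assoc, haa,
        one_mul]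
    · -- b * (a * x) * a = a * (b * (a * x))
      have e1 : b * (a * x) * a = -(b * x) := by
        rw [mul_assoc, mul_assoc, hxa, mul_neg, mul_neg, ← mul_assoc a a x, haa, one_mul]
      have e2 : a * (b * (a * x)) = -(b * x) := by
        rw [← mul_assoc, hab, neg_mul, mul_assoc, ← mul_assoc a a x, haa, one_mul]
      rw [e1, e2]
    · -- b * (a * x) * b = b * (b * (a * x))
      have e1 : b * (a * x) * b = a * x := by
        calc b * (a * x) * b = b * (a * (x * b)) := by rw [mul_assoc, mul_assoc]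
          _ = -(b * ((a * b) * x)) := by rw [hxb, mul_neg, mul_neg, mul_assoc]
          _ = (b * b) * (a * x) := by rw [hab, neg_mul, mul_neg, neg_neg, mul_assoc, mul_assoc]
          _ = a * x := by rw [hbb, one_mul]
      have e2 : b * (b * (a * x)) = a * x := by
        rw [← mul_assoc, hbb, one_mul]
      rw [e1, e2]

end units

/-- **[FRA]** -/
theorem pkgFrA : PkgFrA.{u} := by
  intro F _ R hPM hSC hR hZ h2
  obtain ⟨hpm, hsq⟩ := hPM
  have hne : (-1 : GL (Fin 4) F) ≠ 1 := by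
    intro h
    have h' := congrArg (fun g : GL (Fin 4) F => (g : M4 F) 0 0) h
    simp only [Units.val_neg, Units.val_one, Matrix.neg_apply, Matrix.one_apply_eq] at h'
    apply h2
    linear_combination -h'
  have hpmU : ∀ x ∈ R, ∀ y ∈ R, x * y = y * x ∨ x * y = -(y * x) := by
    intro x hx y hy
    rcases hpm x hx y hy with h | h
    · left; exact Units.ext (by simpa using h)
    · right; exact Units.ext (by simpa using h)
  have hsqU : ∀ x ∈ R, x * x = 1 ∨ x * x = -1 := by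
    intro x hx
    rcases hsq x hx with h | h
    · left; exact Units.ext (by simpa using h)
    · right; exact Units.ext (by simpa using h)
  have : Finite R := Nat.finite_of_card_ne_zero (by rw [hR]; norm_num)
  -- the centre, as a subgroup of `GL`
  set Zc : Subgroup (GL (Fin 4) F) := (Subgroup.center R).map R.subtype with hZc
  have hZc_card : Nat.card Zc = 4 := by
    exact (Nat.card_congr
      ((Subgroup.center R).equivMapOfInjective R.subtype R.subtype_injective).symm.toEquiv).trans hZ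
  have : Finite Zc := Nat.finite_of_card_ne_zero (by rw [hZc_card]; norm_num)
  have hZc_mem : ∀ g, g ∈ Zc ↔ g ∈ R ∧ ∀ y ∈ R, g * y = y * g := by
    intro g
    constructor
    · rintro ⟨z, hz, rfl⟩
      refine ⟨z.2, fun y hy => ?_⟩
      have := Subgroup.mem_center_iff.mp hz ⟨y, hy⟩
      exact (congrArg Subtype.val this).symm
    · rintro ⟨hg, hc⟩
      refine ⟨⟨g, hg⟩, Subgroup.mem_center_iff.mpr ?_, rfl⟩
      intro y
      exact Subtype.ext (hc y y.2).symm
  -- central elements are scalar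
  have hscal : ∀ g ∈ Zc, ∃ c : F, (g : M4 F) = c • (1 : M4 F) ∧
      (c * c = 1 ∨ c * c = -1) := by
    intro g hg
    obtain ⟨hgR, hgc⟩ := (hZc_mem g).mp hg
    obtain ⟨c, hc⟩ := hSC (g : M4 F) (fun s hs => congrArg Units.val (hgc s hs))
    refine ⟨c, hc, ?_⟩
    rcases hsq g hgR with h | h
    · left
      rw [hc] at h
      have h00 := congrFun (congrFun h 0) 0
      simpa using h00
    · right
      rw [hc] at h
      have h00 := congrFun (congrFun h 0) 0
      simpa using h00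
  -- the primitive fourth root of unity
  obtain ⟨z0, hz0Z, i, hz0, hi⟩ : ∃ z0 ∈ Zc, ∃ i : F, (z0 : M4 F) = i • (1 : M4 F) ∧
      i * i = -1 := by
    by_contra hcon
    push Not at hcon
    have hsub : (Zc : Set (GL (Fin 4) F)) ⊆ ({1, -1} : Set (GL (Fin 4) F)) := by
      intro g hg
      obtain ⟨c, hc, hcc⟩ := hscal g hg
      rcases hcc with h | h
      · have h0 : (c - 1) * (c + 1) = 0 := by linear_combination h
        rcases mul_eq_zero.mp h0 with h1 | h1
        · left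
          apply Units.ext
          have : c = 1 := by linear_combination h1
          rw [hc, this]; simp
        · right
          apply Units.ext
          have : c = -1 := by linear_combination h1
          rw [hc, this]; simp
      · exact absurd h (hcon g hg c hc)
    have hle : Nat.card Zc ≤ 2 := by
      calc Nat.card Zc = (Zc : Set (GL (Fin 4) F)).ncard := rfl
        _ ≤ ({1, -1} : Set (GL (Fin 4) F)).ncard := Set.ncard_le_ncard hsub (Set.toFinite _)
        _ ≤ ({-1} : Set (GL (Fin 4) F)).ncard + 1 := Set.ncard_insert_le _ _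
        _ = 2 := by rw [Set.ncard_singleton]
    omega
  obtain ⟨hz0R, hz0c⟩ := (hZc_mem z0).mp hz0Z
  have hz0comm : ∀ t : GL (Fin 4) F, z0 * t = t * z0 := by
    intro t
    apply Units.ext
    simp [hz0]
  have hz0sq : z0 * z0 = -1 := by
    apply Units.ext
    simp [hz0, hi, smul_smul]
  -- normalisation to involutions
  have hnorm : ∀ x ∈ R, ∃ x' ∈ R, x' * x' = 1 ∧ ∀ t : GL (Fin 4) F,
      (x * t = t * x → x' * t = t * x') ∧ (x * t = -(t * x) → x' * t = -(t * x')) := by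
    intro x hx
    rcases hsqU x hx with h | h
    · exact ⟨x, hx, h, fun t => ⟨id, id⟩⟩
    · refine ⟨z0 * x, R.mul_mem hz0R hx, ?_, fun t => ⟨fun ht => ?_, fun ht => ?_⟩⟩
      · calc z0 * x * (z0 * x) = z0 * (x * z0) * x := by simp only [mul_assoc]
          _ = (z0 * z0) * (x * x) := by rw [← hz0comm x]; simp only [mul_assoc]
          _ = 1 := by rw [hz0sq, h]; simp
      · calc z0 * x * t = z0 * (x * t) := mul_assoc _ _ _
          _ = (z0 * t) * x := by rw [ht, mul_assoc]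
          _ = t * (z0 * x) := by rw [hz0comm t, mul_assoc]
      · calc z0 * x * t = z0 * (x * t) := mul_assoc _ _ _
          _ = -((z0 * t) * x) := by rw [ht, mul_neg, mul_assoc]
          _ = -(t * (z0 * x)) := by rw [hz0comm t, mul_assoc]
  -- first pair
  obtain ⟨x1, hx1, y1, hy1, hxy1⟩ : ∃ x ∈ R, ∃ y ∈ R, x * y = -(y * x) := by
    by_contra hcon
    push Not at hcon
    have hle : R ≤ Zc := by
      intro g hg
      rw [hZc_mem]
      refine ⟨hg, fun y hy => ?_⟩
      rcases hpmU g hg y hy with h | h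
      · exact h
      · exact absurd h (hcon g hg y hy)
    have := Subgroup.card_le_of_le hle
    omega
  obtain ⟨a1, ha1, ha1sq, ha1t⟩ := hnorm x1 hx1
  obtain ⟨b1, hb1, hb1sq, hb1t⟩ := hnorm y1 hy1
  have hba1 : b1 * a1 = -(a1 * b1) := by
    have h1 := (ha1t y1).2 hxy1
    have h2 : y1 * a1 = -(a1 * y1) := by rw [h1, neg_neg]
    exact (hb1t a1).2 h2
  have hab1 : a1 * b1 = -(b1 * a1) := by rw [hba1, neg_neg]
  set R1 : Subgroup (GL (Fin 4) F) := R ⊓ Subgroup.centralizer ({a1} : Set (GL (Fin 4) F))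
    with hR1
  set R2 : Subgroup (GL (Fin 4) F) := R1 ⊓ Subgroup.centralizer ({b1} : Set (GL (Fin 4) F))
    with hR2
  have c1 : Nat.card R = 2 * Nat.card R1 :=
    fra_card_half hne R a1 b1 hb1 hba1 (fun x hx => hpmU x hx a1 ha1)
  have ha1R1 : a1 ∈ R1 := ⟨ha1, fra_mem_cent.mpr rfl⟩
  have c2 : Nat.card R1 = 2 * Nat.card R2 :=
    fra_card_half hne R1 b1 a1 ha1R1 hab1 (fun x hx => hpmU x hx.1 b1 hb1)
  have hR2card : Nat.card R2 = 16 := by omega
  have : Finite R2 := Nat.finite_of_card_ne_zero (by rw [hR2card]; norm_num)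
  -- second pair
  obtain ⟨x2, hx2, hx2Z⟩ : ∃ x ∈ R2, x ∉ Zc := by
    by_contra hcon
    push Not at hcon
    have hle : R2 ≤ Zc := hcon
    have := Subgroup.card_le_of_le hle
    omega
  have hx2R : x2 ∈ R := hx2.1.1
  have hx2a : a1 * x2 = x2 * a1 := fra_mem_cent.mp hx2.1.2
  have hx2b : b1 * x2 = x2 * b1 := fra_mem_cent.mp hx2.2
  obtain ⟨y, hy, hxy⟩ : ∃ y ∈ R, x2 * y = -(y * x2) := by
    by_contra hcon
    push Not at hcon
    apply hx2Z
    rw [hZc_mem]
    refine ⟨hx2R, fun y hy => ?_⟩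
    rcases hpmU x2 hx2R y hy with h | h
    · exact h
    · exact absurd h (hcon y hy)
  obtain ⟨e, f, c, hcR, hyc, hca, hcb⟩ := fra_decomp R a1 b1 y ha1 hb1 hy ha1sq hb1sq hab1
    (hpmU y hy a1 ha1) (hpmU y hy b1 hb1)
  have hx2c : x2 * c = -(c * x2) := by
    have hcomm : x2 * (a1 ^ e * b1 ^ f) = (a1 ^ e * b1 ^ f) * x2 := by
      have h1 : Commute x2 a1 := hx2a.symm
      have h2 : Commute x2 b1 := hx2b.symm
      exact ((h1.pow_right e).mul_right (h2.pow_right f)).eq
    rw [hyc] at hxy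
    have h3 : (a1 ^ e * b1 ^ f) * (x2 * c) = (a1 ^ e * b1 ^ f) * (-(c * x2)) := by
      calc (a1 ^ e * b1 ^ f) * (x2 * c) = x2 * (a1 ^ e * b1 ^ f * c) := by
            rw [← mul_assoc, ← hcomm, mul_assoc]
        _ = -(a1 ^ e * b1 ^ f * c * x2) := hxy
        _ = (a1 ^ e * b1 ^ f) * (-(c * x2)) := by rw [mul_neg, mul_assoc]
    exact mul_left_cancel h3
  obtain ⟨a2, ha2, ha2sq, ha2t⟩ := hnorm x2 hx2R
  obtain ⟨b2, hb2, hb2sq, hb2t⟩ := hnorm c hcR
  have hba2 : b2 * a2 = -(a2 * b2) := by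
    have h1 := (ha2t c).2 hx2c
    have h2 : c * a2 = -(a2 * c) := by rw [h1, neg_neg]
    exact (hb2t a2).2 h2
  have hab2 : a2 * b2 = -(b2 * a2) := by rw [hba2, neg_neg]
  have ha2a1 : a2 * a1 = a1 * a2 := (ha2t a1).1 hx2a.symm
  have ha2b1 : a2 * b1 = b1 * a2 := (ha2t b1).1 hx2b.symm
  have hb2a1 : b2 * a1 = a1 * b2 := (hb2t a1).1 hca
  have hb2b1 : b2 * b1 = b1 * b2 := (hb2t b1).1 hcb
  have ha2R2 : a2 ∈ R2 := ⟨⟨ha2, fra_mem_cent.mpr ha2a1.symm⟩, fra_mem_cent.mpr ha2b1.symm⟩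
  have hb2R2 : b2 ∈ R2 := ⟨⟨hb2, fra_mem_cent.mpr hb2a1.symm⟩, fra_mem_cent.mpr hb2b1.symm⟩
  set R3 : Subgroup (GL (Fin 4) F) := R2 ⊓ Subgroup.centralizer ({a2} : Set (GL (Fin 4) F))
    with hR3
  set R4 : Subgroup (GL (Fin 4) F) := R3 ⊓ Subgroup.centralizer ({b2} : Set (GL (Fin 4) F))
    with hR4
  have c3 : Nat.card R2 = 2 * Nat.card R3 :=
    fra_card_half hne R2 a2 b2 hb2R2 hba2 (fun x hx => hpmU x hx.1.1 a2 ha2)
  have ha2R3 : a2 ∈ R3 := ⟨ha2R2, fra_mem_cent.mpr rfl⟩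
  have c4 : Nat.card R3 = 2 * Nat.card R4 :=
    fra_card_half hne R3 b2 a2 ha2R3 hab2 (fun x hx => hpmU x hx.1.1.1 b2 hb2)
  have hR4card : Nat.card R4 = 4 := by omega
  have : Finite R4 := Nat.finite_of_card_ne_zero (by rw [hR4card]; norm_num)
  have hZR4 : Zc ≤ R4 := by
    intro g hg
    obtain ⟨hgR, hgc⟩ := (hZc_mem g).mp hg
    exact ⟨⟨⟨⟨hgR, fra_mem_cent.mpr (hgc a1 ha1).symm⟩, fra_mem_cent.mpr (hgc b1 hb1).symm⟩,
      fra_mem_cent.mpr (hgc a2 ha2).symm⟩, fra_mem_cent.mpr (hgc b2 hb2).symm⟩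
  have hZeq : Zc = R4 := Subgroup.eq_of_le_of_card_ge hZR4 (by rw [hR4card, hZc_card])
  -- the result
  refine ⟨i, a1, b1, a2, b2, hi, ha1, hb1, ha2, hb2,
    ⟨ha1sq, hb1sq, ha2sq, hb2sq, ?_, ?_, ha2a1.symm, hb2a1.symm, ha2b1.symm, hb2b1.symm⟩,
    ⟨z0, hz0R, hz0⟩, ?_⟩
  · have := congrArg Units.val hab1
    simpa using this
  · have := congrArg Units.val hab2
    simpa using this
  · intro x hx
    obtain ⟨e1, f1, c', hc'R, hxc, hc'a, hc'b⟩ := fra_decomp R a1 b1 x ha1 hb1 hx ha1sq hb1sq hab1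
      (hpmU x hx a1 ha1) (hpmU x hx b1 hb1)
    obtain ⟨e2, f2, d, hdR, hcd, hda, hdb⟩ := fra_decomp R a2 b2 c' ha2 hb2 hc'R ha2sq hb2sq hab2
      (hpmU c' hc'R a2 ha2) (hpmU c' hc'R b2 hb2)
    have hc'R2 : c' ∈ R2 := ⟨⟨hc'R, fra_mem_cent.mpr hc'a.symm⟩, fra_mem_cent.mpr hc'b.symm⟩
    have hd : d = (a2 ^ e2 * b2 ^ f2)⁻¹ * c' := eq_inv_mul_of_mul_eq hcd.symm
    have hdR2 : d ∈ R2 := by
      rw [hd]
      exact R2.mul_mem (R2.inv_mem (R2.mul_mem (R2.pow_mem ha2R2 _) (R2.pow_mem hb2R2 _))) hc'R2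
    have hdR4 : d ∈ R4 := ⟨⟨hdR2, fra_mem_cent.mpr hda.symm⟩, fra_mem_cent.mpr hdb.symm⟩
    rw [← hZeq] at hdR4
    obtain ⟨cc, hcc, hcc2⟩ := hscal d hdR4
    have hk : ∃ k : ℕ, cc = i ^ k := by
      have h0 : (cc - 1) * (cc + 1) * ((cc - i) * (cc + i)) = 0 := by
        rcases hcc2 with h | h
        · linear_combination (cc * cc + 1) * h - (cc * cc - 1) * hi
        · linear_combination (cc * cc - 1) * h - (cc * cc - 1) * hi
      rcases mul_eq_zero.mp h0 with h1 | h1
      · rcases mul_eq_zero.mp h1 with h1 | h1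
        · exact ⟨0, by linear_combination h1⟩
        · exact ⟨2, by linear_combination h1 - hi⟩
      · rcases mul_eq_zero.mp h1 with h1 | h1
        · exact ⟨1, by linear_combination h1⟩
        · exact ⟨3, by linear_combination h1 - i * hi⟩
    obtain ⟨k, hk⟩ := hk
    refine ⟨k, e1, f1, e2, f2, ?_⟩
    rw [hxc, hcd]
    simp only [Units.val_mul, Units.val_pow_eq_pow_val, hcc, hk, Matrix.mul_smul, mul_one,
      mul_assoc]

end Cfsg.Agent.Lib.Helper13.U64
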